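import Mathlib
import Groth.Agent.EtSite.TopInv
import Groth.Prelude.Def_FEt

/-!
# Base change along a geometrically connected fpqc morphism is fully faithful on finite étale covers
-/

set_option autoImplicit false
universe u
open CategoryTheory Limits AlgebraicGeometry TopologicalSpace Opposite

namespace Groth.Agent.FullyFaithBC

variable {A B S X : Scheme.{u}}

/-- Descent of a morphism of finite étale schemes. -/
theorem exists_desc_of_geometricallyConnected (f : X ⟶ S) [GeometricallyConnected f] [UniversallyOpen f]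
    [Flat f] [QuasiCompact f] (a : A ⟶ S) (b : B ⟶ S) [IsFinite b] [Etale b]
    (g : pullback a f ⟶ B) (hg : g ≫ b = pullback.fst a f ≫ a) :
    ∃ k : A ⟶ B, k ≫ b = a ∧ pullback.fst a f ≫ k = g := by
  let pA := pullback.fst a f
  let b' := pullback.fst a b
  let G : pullback a f ⟶ pullback a b := pullback.lift pA g hg.symm
  let q := pullback.fst b' pA
  let π := pullback.snd b' pA
  let s : pullback a f ⟶ pullback b' pA := pullback.lift G (𝟙 _) (by
    rw [Category.id_comp]; exact pullback.lift_fst _ _ _)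
  have hsπ : s ≫ π = 𝟙 _ := pullback.lift_snd _ _ _
  haveI : IsOpenImmersion s := EtSite.isOpenImmersion_of_section π s hsπ
  haveI : IsClosedImmersion (s ≫ π) := by rw [hsπ]; infer_instance
  haveI : IsClosedImmersion s := IsClosedImmersion.of_comp s π
  haveI : GeometricallyConnected q := inferInstance
  haveI : UniversallyOpen q := inferInstance
  have hC : IsClopen (Set.range s) := ⟨s.isClosedEmbedding.isClosed_range, s.isOpenEmbedding.isOpen_range⟩
  have hsat : ∀ x y, q x = q y → x ∈ Set.range s → y ∈ Set.range s := fun x y hxy hx =>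
    (q.isConnected_preimage_singleton (q x)).isPreconnected.subset_isClopen hC ⟨x, rfl, hx⟩ hxy.symm
  let D : (pullback a b).Opens := ⟨q '' Set.range s, q.isOpenMap _ hC.isOpen⟩
  let C := q ⁻¹ᵁ D
  have hsC : Set.range s ⊆ Set.range C.ι := by
    rw [Scheme.Opens.range_ι]
    exact fun x hx => ⟨x, hx, rfl⟩
  let s' := IsOpenImmersion.lift C.ι s hsC
  have hs' : s' ≫ C.ι = s := IsOpenImmersion.lift_fac _ _ _
  haveI : IsOpenImmersion s' := by
    have : IsOpenImmersion (s' ≫ C.ι) := by rw [hs']; infer_instance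
    exact IsOpenImmersion.of_comp s' C.ι
  haveI : Surjective s' := ⟨fun z => by
    obtain ⟨x, hx, hxy⟩ := z.2
    obtain ⟨w, hw⟩ := hsat x z.1 hxy hx
    refine ⟨w, C.ι.isOpenEmbedding.injective ?_⟩
    rw [← Scheme.Hom.comp_apply, hs']
    exact hw⟩
  haveI : IsIso s' := (isIso_iff_isOpenImmersion_and_surjective s').mpr ⟨inferInstance, inferInstance⟩
  have hπ' : IsIso (C.ι ≫ π) := by
    have h1 : s' ≫ C.ι ≫ π = 𝟙 _ := by rw [← Category.assoc, hs', hsπ]
    have h2 : C.ι ≫ π = inv s' := by rw [← cancel_epi s', h1, IsIso.hom_inv_id]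
    rw [h2]; infer_instance
  have hpb : IsPullback (C.ι ≫ π) (q ∣_ D) pA (D.ι ≫ b') :=
    (isPullback_morphismRestrict q D).flip.paste_horiz (IsPullback.of_hasPullback b' pA).flip
  haveI hD : IsIso (D.ι ≫ b') :=
    MorphismProperty.of_isPullback_of_descendsAlong (P := MorphismProperty.isomorphisms Scheme.{u})
      (Q := @Surjective ⊓ @Flat ⊓ @QuasiCompact) hpb ⟨⟨inferInstance, inferInstance⟩, inferInstance⟩ hπ'
  refine ⟨inv (D.ι ≫ b') ≫ D.ι ≫ pullback.snd a b, ?_, ?_⟩
  · rw [Category.assoc, Category.assoc, ← pullback.condition, ← Category.assoc D.ι, IsIso.inv_hom_id_assoc]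
  · have h3 : pA ≫ inv (D.ι ≫ b') = s' ≫ (q ∣_ D) := by
      rw [IsIso.comp_inv_eq, Category.assoc, ← hpb.w, Category.assoc, reassoc_of% hs', reassoc_of% hsπ]
    show pA ≫ _ = g
    rw [reassoc_of% h3, morphismRestrict_ι_assoc, reassoc_of% hs']
    show (s ≫ q) ≫ pullback.snd a b = g
    rw [show s ≫ q = G from pullback.lift_fst _ _ _]
    exact pullback.lift_snd _ _ _

/-- Base change along a geometrically connected fpqc open morphism is fully faithful. -/
theorem fullyFaithful_of_geometricallyConnected {X S : Scheme.{u}} (f : X ⟶ S) [GeometricallyConnected f]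
    [UniversallyOpen f] [Flat f] [QuasiCompact f] :
    (FEt.restrict f).Full ∧ (FEt.restrict f).Faithful := by
  refine ⟨⟨fun {A B} φ => ?_⟩, ⟨fun {A B} φ ψ h => ?_⟩⟩
  · let g : pullback A.hom f ⟶ B.left := φ.left ≫ pullback.fst B.hom f
    have hsnd : φ.left ≫ pullback.snd B.hom f = pullback.snd A.hom f := MorphismProperty.Over.w φ
    have hg : g ≫ B.hom = pullback.fst A.hom f ≫ A.hom := by
      show (φ.left ≫ pullback.fst B.hom f) ≫ B.hom = _
      refine (Category.assoc _ _ _).trans ?_
      exact ((congrArg (φ.left ≫ ·) pullback.condition).trans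
        ((Category.assoc _ _ _).symm.trans (congrArg (· ≫ f) hsnd))).trans pullback.condition.symm
    haveI : IsFinite B.hom := B.prop.1
    haveI : Etale B.hom := B.prop.2
    obtain ⟨k, hk₁, hk₂⟩ := exists_desc_of_geometricallyConnected f A.hom B.hom g hg
    refine ⟨MorphismProperty.Over.homMk k hk₁, MorphismProperty.Over.Hom.ext (pullback.hom_ext ?_ ?_)⟩
    · exact (pullback.lift_fst _ _ _).trans hk₂
    · exact (pullback.lift_snd _ _ _).trans hsnd.symm
  · apply MorphismProperty.Over.Hom.ext
    haveI : Epi (pullback.fst A.hom f) := Flat.epi_of_flat_of_surjective _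
    have := congrArg (fun z => z.left ≫ pullback.fst B.hom f) h
    exact (cancel_epi (pullback.fst A.hom f)).mp
      ((pullback.lift_fst _ _ _).symm.trans (this.trans (pullback.lift_fst _ _ _)))

end Groth.Agent.FullyFaithBC
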