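import Mathlib

/-!
# Sections of a finite flat base change
-/

set_option autoImplicit false
universe u
open CategoryTheory Limits AlgebraicGeometry TopologicalSpace Opposite

namespace Groth.Agent.FullyFaithBC

variable {Z S A P : Scheme.{u}} {f : Z ⟶ S} {a : A ⟶ S} {p₁ : P ⟶ Z} {p₂ : P ⟶ A}

/-- The projection on sections over the preimage of an open. -/
noncomputable def pA (p₁ : P ⟶ Z) (p₂ : P ⟶ A) (U : Z.Opens) : Γ(A, ⊤) →+* Γ(P, p₁ ⁻¹ᵁ U) :=
  (p₂.appLE ⊤ (p₁ ⁻¹ᵁ U) (by simp)).hom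

/-- Restriction of a function on the base to an open of `Z`. -/
noncomputable def rS (f : Z ⟶ S) (U : Z.Opens) : Γ(S, ⊤) →+* Γ(Z, U) := (f.appLE ⊤ U (by simp)).hom

theorem pA_res {U U' : Z.Opens} (h : U' ≤ U) (x : Γ(A, ⊤)) :
    P.presheaf.map (homOfLE (p₁.preimage_mono h)).op (pA p₁ p₂ U x) = pA p₁ p₂ U' x := by
  show (p₂.appLE ⊤ (p₁ ⁻¹ᵁ U) _ ≫ P.presheaf.map _).hom x = _
  rw [Scheme.Hom.appLE_map]
  rfl

theorem rS_res {U U' : Z.Opens} (h : U' ≤ U) (x : Γ(S, ⊤)) :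
    Z.presheaf.map (homOfLE h).op (rS f U x) = rS f U' x := by
  show (f.appLE ⊤ U _ ≫ Z.presheaf.map _).hom x = _
  rw [Scheme.Hom.appLE_map]
  rfl

theorem res_res {X : Scheme.{u}} {U V W : X.Opens} (i : V ⟶ U) (j : W ⟶ V) (x : Γ(X, U)) :
    X.presheaf.map j.op (X.presheaf.map i.op x) = X.presheaf.map (homOfLE (j.le.trans i.le)).op x := by
  rw [← CommRingCat.comp_apply, ← Functor.map_comp, ← op_comp]
  rfl

theorem app_res {U U' : Z.Opens} (h : U' ≤ U) (r : Γ(Z, U)) :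
    P.presheaf.map (homOfLE (p₁.preimage_mono h)).op ((p₁.app U).hom r) =
      (p₁.app U').hom (Z.presheaf.map (homOfLE h).op r) := by
  rw [← CommRingCat.comp_apply, ← CommRingCat.comp_apply, p₁.naturality]
  rfl

theorem pA_appTop (H : IsPullback p₁ p₂ f a) (U : Z.Opens) (r : Γ(S, ⊤)) :
    pA p₁ p₂ U (a.appTop r) = (p₁.app U).hom (rS f U r) := by
  have h1 : (p₂.appLE ⊤ (p₁ ⁻¹ᵁ U) (by simp)).hom ((a.appLE ⊤ ⊤ (by simp)).hom r) =
      (p₁.appLE U (p₁ ⁻¹ᵁ U) le_rfl).hom ((f.appLE ⊤ U (by simp)).hom r) := by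
    rw [← CommRingCat.comp_apply, ← CommRingCat.comp_apply]
    congr 2
    rw [Scheme.Hom.appLE_comp_appLE, Scheme.Hom.appLE_comp_appLE]
    congr 1
    exact H.w.symm
  rw [← p₁.app_eq_appLE] at h1
  rw [Scheme.Hom.appTop, a.app_eq_appLE]
  exact h1

/-- Coordinates of sections over the preimage of an affine open. -/
theorem exists_coord (H : IsPullback p₁ p₂ f a) [IsAffine S] [IsAffine A] {n : ℕ}
    (e : Fin n → Γ(A, ⊤)) (φ : Fin n → Γ(A, ⊤) → Γ(S, ⊤))
    (hφ : ∀ i, ∀ (r : Γ(S, ⊤)) x y, φ i (x + y) = φ i x + φ i y ∧ φ i (a.appTop r * x) = r * φ i x)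
    (he : ∀ x, x = ∑ i, a.appTop (φ i x) * e i) {U : Z.Opens} (hU : IsAffineOpen U) :
    ∃ ψ : Fin n → Γ(P, p₁ ⁻¹ᵁ U) →+ Γ(Z, U),
      (∀ i r x, ψ i ((p₁.app U).hom r * pA p₁ p₂ U x) = r * rS f U (φ i x)) ∧
      ∀ z, z = ∑ i, (p₁.app U).hom (ψ i z) * pA p₁ p₂ U (e i) := by
  letI : Algebra Γ(S, ⊤) Γ(A, ⊤) := a.appTop.hom.toAlgebra
  letI : Algebra Γ(S, ⊤) Γ(Z, U) := (rS f U).toAlgebra
  letI : Algebra Γ(Z, U) Γ(P, p₁ ⁻¹ᵁ U) := (p₁.app U).hom.toAlgebra
  letI : Algebra Γ(A, ⊤) Γ(P, p₁ ⁻¹ᵁ U) := (pA p₁ p₂ U).toAlgebra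
  letI : Algebra Γ(S, ⊤) Γ(P, p₁ ⁻¹ᵁ U) := ((p₁.app U).hom.comp (rS f U)).toAlgebra
  haveI : IsScalarTower Γ(S, ⊤) Γ(Z, U) Γ(P, p₁ ⁻¹ᵁ U) := IsScalarTower.of_algebraMap_eq' rfl
  haveI : IsScalarTower Γ(S, ⊤) Γ(A, ⊤) Γ(P, p₁ ⁻¹ᵁ U) :=
    IsScalarTower.of_algebraMap_eq fun r => (pA_appTop H U r).symm
  have hpo := (isIso_pushoutSection_iff ..).mp
    (isIso_pushoutSection_of_isAffineOpen H (US := ⊤) (UT := ⊤) (UX := U) (by simp) (by simp)
      (UY := p₁ ⁻¹ᵁ U) (by simp) (isAffineOpen_top S) (isAffineOpen_top A) hU)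
  haveI hP : Algebra.IsPushout Γ(S, ⊤) Γ(Z, U) Γ(A, ⊤) Γ(P, p₁ ⁻¹ᵁ U) := by
    refine CommRingCat.isPushout_iff_isPushout.mp ?_
    convert hpo using 1 <;>
      first
      | rfl
      | exact (Scheme.Hom.app_eq_appLE ..).symm
      | exact Scheme.Hom.app_eq_appLE ..
      | (ext1; rfl)
  have hbc := hP.out
  let L : Fin n → Γ(A, ⊤) →ₗ[Γ(S, ⊤)] Γ(Z, U) := fun i =>
    { toFun := fun x => rS f U (φ i x)
      map_add' := fun x y => by rw [(hφ i 0 x y).1, map_add]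
      map_smul' := fun r x => by
        show rS f U (φ i (a.appTop r * x)) = rS f U r * rS f U (φ i x)
        rw [(hφ i r x x).2, map_mul] }
  let ψ : Fin n → Γ(P, p₁ ⁻¹ᵁ U) →ₗ[Γ(Z, U)] Γ(Z, U) := fun i => hbc.lift (L i)
  have h1 : ∀ i r x, ψ i ((p₁.app U).hom r * pA p₁ p₂ U x) = r * rS f U (φ i x) := fun i r x => by
    have : (p₁.app U).hom r * pA p₁ p₂ U x =
        r • (IsScalarTower.toAlgHom Γ(S, ⊤) Γ(A, ⊤) Γ(P, p₁ ⁻¹ᵁ U)).toLinearMap x :=
      (Algebra.smul_def r _).symm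
    rw [this, map_smul, IsBaseChange.lift_eq]
    rfl
  refine ⟨fun i => (ψ i).toAddMonoidHom, h1, fun z => ?_⟩
  refine hbc.inductionOn z _ ?_ (fun x => ?_) (fun r z hz => ?_) (fun z z' hz hz' => ?_)
  · simp
  · show pA p₁ p₂ U x = _
    have hx : ∀ i, ψ i (pA p₁ p₂ U x) = rS f U (φ i x) := fun i => by
      have := h1 i 1 x
      rwa [map_one, one_mul, one_mul] at this
    conv_lhs => rw [he x, map_sum]
    refine Finset.sum_congr rfl fun i _ => ?_
    rw [map_mul, pA_appTop H U]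
    show _ = (p₁.app U).hom (ψ i (pA p₁ p₂ U x)) * _
    rw [hx]
  · simp only [LinearMap.toAddMonoidHom_coe] at hz ⊢
    conv_lhs => rw [hz, Algebra.smul_def, Finset.mul_sum]
    refine Finset.sum_congr rfl fun i _ => ?_
    rw [map_smul, smul_eq_mul, map_mul, mul_assoc]
    rfl
  · simp only [LinearMap.toAddMonoidHom_coe] at hz hz' ⊢
    conv_lhs => rw [hz, hz', ← Finset.sum_add_distrib]
    refine Finset.sum_congr rfl fun i _ => ?_
    rw [map_add, map_add, add_mul]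

/-- Global functions on a finite flat base change of a scheme with no new global functions. -/
theorem bijective_appTop (H : IsPullback p₁ p₂ f a) [IsAffine S] [IsAffine A]
    (hf : Function.Bijective f.appTop.hom) (hfin : a.appTop.hom.Finite) (hflat : a.appTop.hom.Flat)
    (hfp : a.appTop.hom.FinitePresentation) : Function.Bijective p₂.appTop.hom := by
  classical
  letI : Algebra Γ(S, ⊤) Γ(A, ⊤) := a.appTop.hom.toAlgebra
  haveI : Module.Finite Γ(S, ⊤) Γ(A, ⊤) := hfin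
  haveI : Module.Flat Γ(S, ⊤) Γ(A, ⊤) := hflat
  haveI : Algebra.FinitePresentation Γ(S, ⊤) Γ(A, ⊤) := hfp
  haveI : Module.FinitePresentation Γ(S, ⊤) Γ(A, ⊤) :=
    Module.FinitePresentation.of_finite_of_finitePresentation _ _
  haveI : Module.Projective Γ(S, ⊤) Γ(A, ⊤) := Module.Flat.projective_of_finitePresentation
  obtain ⟨n, π, hπ⟩ := Module.Finite.exists_fin' Γ(S, ⊤) Γ(A, ⊤)
  obtain ⟨s, hs⟩ := Module.projective_lifting_property π LinearMap.id hπ
  let e : Fin n → Γ(A, ⊤) := fun i => π (Pi.single i 1)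
  let φ : Fin n → Γ(A, ⊤) → Γ(S, ⊤) := fun i x => s x i
  have he : ∀ x, x = ∑ i, a.appTop (φ i x) * e i := fun x => by
    conv_lhs => rw [← show π (s x) = x from LinearMap.congr_fun hs x, pi_eq_sum_univ' (s x), map_sum]
    refine Finset.sum_congr rfl fun i _ => ?_
    rw [map_smul]
    rfl
  have hφ : ∀ i, ∀ (r : Γ(S, ⊤)) x y, φ i (x + y) = φ i x + φ i y ∧ φ i (a.appTop r * x) = r * φ i x :=
    fun i r x y => ⟨by show s (x + y) i = s x i + s y i; rw [map_add]; rfl,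
      by show s (r • x) i = r * s x i; rw [map_smul]; rfl⟩
  choose ψ hψ₁ hψ₂ using fun (U : Z.affineOpens) => exists_coord H e φ hφ he U.2
  have hZ : ⊤ ≤ ⨆ U : Z.affineOpens, (U : Z.Opens) := (iSup_affineOpens_eq_top Z).ge
  have hnat : ∀ (U U' : Z.affineOpens) (h : (U' : Z.Opens) ≤ U) i z,
      ψ U' i (P.presheaf.map (homOfLE (p₁.preimage_mono h)).op z) =
        Z.presheaf.map (homOfLE h).op (ψ U i z) := fun U U' h i z => by
    conv_lhs => rw [hψ₂ U z, map_sum, map_sum]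
    conv_rhs => rw [hψ₂ U z, map_sum, map_sum]
    refine Finset.sum_congr rfl fun j _ => ?_
    rw [map_mul, app_res h, pA_res h, hψ₁, hψ₁, map_mul, rS_res h]
  refine ⟨(injective_iff_map_eq_zero _).mpr fun x hx => ?_, fun z => ?_⟩
  · have h0 : ∀ (U : Z.affineOpens), pA p₁ p₂ (U : Z.Opens) x = 0 := fun U => by
      have : pA p₁ p₂ (U : Z.Opens) x = P.presheaf.map (homOfLE le_top).op (p₂.appTop x) := by
        rfl
      rw [this, hx, map_zero]
    have h1 : ∀ i, φ i x = 0 := fun i => hf.1 (by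
      rw [map_zero]
      refine Z.sheaf.eq_of_locally_eq' (fun U : Z.affineOpens => (U : Z.Opens)) ⊤ (fun U => homOfLE le_top) hZ _ _
        fun U => ?_
      refine Eq.trans ?_ (map_zero _).symm
      have h2 := hψ₁ U i 1 x
      rw [h0 U, mul_zero, map_zero, one_mul] at h2
      exact h2.symm)
    rw [he x]
    exact Finset.sum_eq_zero fun i _ => by rw [h1, map_zero, zero_mul]
  · have hc : ∀ i, ∃ c : Γ(S, ⊤), ∀ U : Z.affineOpens,
        rS f U c = ψ U i (P.presheaf.map (homOfLE le_top).op z) := fun i => by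
      obtain ⟨t, ht, -⟩ := Z.sheaf.existsUnique_gluing' (fun U : Z.affineOpens => (U : Z.Opens)) ⊤
        (fun U => homOfLE le_top) hZ (fun U => ψ U i (P.presheaf.map (homOfLE le_top).op z))
        (fun U V => by
          refine Z.sheaf.eq_of_locally_eq' (fun W : {W : Z.affineOpens // (W : Z.Opens) ≤ (U : Z.Opens) ⊓ V} => (W.1 : Z.Opens))
            _ (fun W => homOfLE W.2) ?_ _ _ fun W => ?_
          · intro x hx
            obtain ⟨_, ⟨W, hW, rfl⟩, hxW, hWsub⟩ :=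
              Z.isBasis_affineOpens.exists_subset_of_mem_open hx ((U : Z.Opens) ⊓ V).isOpen
            exact Opens.mem_iSup.mpr ⟨⟨⟨W, hW⟩, hWsub⟩, hxW⟩
          · show Z.presheaf.map _ (Z.presheaf.map _ _) = Z.presheaf.map _ (Z.presheaf.map _ _)
            erw [res_res, res_res]
            rw [← hnat U W.1, ← hnat V W.1]
            erw [res_res, res_res]
            )
      obtain ⟨c, rfl⟩ := hf.2 t
      refine ⟨c, fun U => ?_⟩
      rw [← ht U]
      rfl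
    choose c hc using hc
    refine ⟨∑ i, a.appTop (c i) * e i, ?_⟩
    refine P.sheaf.eq_of_locally_eq' (fun U : Z.affineOpens => p₁ ⁻¹ᵁ (U : Z.Opens)) ⊤ (fun U => homOfLE le_top)
      ?_ _ _ fun U => ?_
    · intro x _
      obtain ⟨U, hxU⟩ := Opens.mem_iSup.mp (hZ (x := p₁ x) trivial)
      exact Opens.mem_iSup.mpr ⟨U, hxU⟩
    · show P.presheaf.map _ (p₂.appTop _) = P.presheaf.map _ z
      have : ∀ x, P.presheaf.map (homOfLE le_top).op (p₂.appTop x) = pA p₁ p₂ (U : Z.Opens) x := fun x => by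
        rfl
      rw [this, map_sum, hψ₂ U (P.presheaf.map _ z)]
      refine Finset.sum_congr rfl fun i _ => ?_
      rw [map_mul, pA_appTop H, hc]

end Groth.Agent.FullyFaithBC
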