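import Mathlib
import Groth.Agent.FullyFaithBC.Sections
import Groth.Agent.TrivSec.Global
import Groth.Prelude.Def_FEt

/-!
# Base change along a morphism without new functions is fully faithful on finite étale covers
-/

set_option autoImplicit false
universe u
open CategoryTheory Limits AlgebraicGeometry TopologicalSpace Opposite

namespace Groth.Agent.FullyFaithBC

open Groth.Agent.TrivSec

variable {Z S A B P : Scheme.{u}} {f : Z ⟶ S} {a : A ⟶ S} {p₁ : P ⟶ Z} {p₂ : P ⟶ A}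

theorem bijective_restrict (H : IsPullback p₁ p₂ f a) [TrivPush f] [IsFinite a] [Flat a]
    [LocallyOfFinitePresentation a] {U : S.Opens} (hU : IsAffineOpen U) :
    Function.Bijective (p₂ ∣_ (a ⁻¹ᵁ U)).appTop.hom := by
  have e : p₂ ⁻¹ᵁ (a ⁻¹ᵁ U) ≤ p₁ ⁻¹ᵁ (f ⁻¹ᵁ U) := by
    rw [← Scheme.Hom.comp_preimage, ← Scheme.Hom.comp_preimage, H.w]
  have hbig := (isPullback_morphismRestrict p₂ (a ⁻¹ᵁ U)).flip.paste_horiz H
  rw [← p₁.resLE_comp_ι e, ← morphismRestrict_ι a U] at hbig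
  have HU : IsPullback (p₁.resLE (f ⁻¹ᵁ U) (p₂ ⁻¹ᵁ (a ⁻¹ᵁ U)) e) (p₂ ∣_ (a ⁻¹ᵁ U)) (f ∣_ U) (a ∣_ U) := by
    refine IsPullback.of_right hbig ?_ (isPullback_morphismRestrict f U).flip
    rw [← cancel_mono U.ι, Category.assoc, Category.assoc, morphismRestrict_ι, morphismRestrict_ι,
      Scheme.Hom.resLE_comp_ι_assoc, morphismRestrict_ι_assoc, H.w]
  haveI : IsAffine (U : Scheme.{u}) := hU
  haveI : IsAffine ((a ⁻¹ᵁ U : A.Opens) : Scheme.{u}) := hU.preimage a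
  exact bijective_appTop HU (TrivPush.bij (g := f ∣_ U) ⊤)
    ((HasAffineProperty.iff_of_isAffine (P := @IsFinite)).mp (inferInstance : IsFinite (a ∣_ U))).2
    (HasRingHomProperty.appTop @Flat (a ∣_ U) inferInstance)
    (HasRingHomProperty.appTop @LocallyOfFinitePresentation (a ∣_ U) inferInstance)

theorem exists_hom_of_appTop {X Y : Scheme.{u}} [IsAffine Y] (m : Γ(Y, ⊤) ⟶ Γ(X, ⊤)) :
    ∃ k : X ⟶ Y, k.appTop = m := by
  refine ⟨X.toSpecΓ ≫ Spec.map m ≫ Y.isoSpec.inv, ?_⟩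
  rw [Scheme.Hom.comp_appTop, Scheme.Hom.comp_appTop, Scheme.toSpecΓ_appTop, Category.assoc,
    Scheme.ΓSpecIso_naturality, ← Category.assoc]
  simp [Scheme.isoSpec, Scheme.toSpecΓ_appTop]

/-- Uniqueness of the descended morphism, locally on the base. -/
theorem ext_restrict (H : IsPullback p₁ p₂ f a) [TrivPush f] [IsFinite a] [Flat a]
    [LocallyOfFinitePresentation a] {b : B ⟶ S} [IsAffineHom b] {V : S.Opens}
    (k k' : ((a ⁻¹ᵁ V : A.Opens) : Scheme.{u}) ⟶ B) (hk : k ≫ b = (a ⁻¹ᵁ V).ι ≫ a)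
    (hk' : k' ≫ b = (a ⁻¹ᵁ V).ι ≫ a)
    (h : (p₂ ∣_ (a ⁻¹ᵁ V)) ≫ k = (p₂ ∣_ (a ⁻¹ᵁ V)) ≫ k') : k = k' := by
  let W : {U : S.affineOpens // (U : S.Opens) ≤ V} → A.Opens := fun U => a ⁻¹ᵁ (U.1 : S.Opens)
  let 𝒱 : ((a ⁻¹ᵁ V : A.Opens) : Scheme.{u}).OpenCover :=
    Scheme.openCoverOfIsOpenCover _ (fun U => (a ⁻¹ᵁ V).ι ⁻¹ᵁ W U) (by
      refine Opens.ext ?_
      ext x
      simp only [Opens.coe_top, Set.mem_univ, iff_true, Opens.coe_iSup, Set.mem_iUnion]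
      obtain ⟨_, ⟨U, hU, rfl⟩, hxU, hUV⟩ :=
        S.isBasis_affineOpens.exists_subset_of_mem_open (show a x.1 ∈ V from x.2) V.isOpen
      exact ⟨⟨⟨U, hU⟩, hUV⟩, hxU⟩)
  refine Scheme.Cover.hom_ext 𝒱 _ _ fun U => ?_
  have hWV : W U ≤ a ⁻¹ᵁ V := a.preimage_mono U.2
  suffices h1 : A.homOfLE hWV ≫ k = A.homOfLE hWV ≫ k' by
    let j : 𝒱.X U ⟶ (W U : Scheme.{u}) := IsOpenImmersion.lift (W U).ι (𝒱.f U ≫ (a ⁻¹ᵁ V).ι) (by
      rintro _ ⟨y, rfl⟩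
      rw [Scheme.Opens.range_ι]
      exact y.2)
    have hj : j ≫ A.homOfLE hWV = 𝒱.f U := by
      rw [← cancel_mono (a ⁻¹ᵁ V).ι, Category.assoc, Scheme.homOfLE_ι, IsOpenImmersion.lift_fac]
    rw [← hj, Category.assoc, h1, Category.assoc]
  haveI : IsAffine ((b ⁻¹ᵁ (U.1 : S.Opens) : B.Opens) : Scheme.{u}) := U.1.2.preimage b
  haveI : IsAffine (W U : Scheme.{u}) := U.1.2.preimage a
  have hrange : ∀ l : ((a ⁻¹ᵁ V : A.Opens) : Scheme.{u}) ⟶ B, l ≫ b = (a ⁻¹ᵁ V).ι ≫ a →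
      Set.range (A.homOfLE hWV ≫ l) ⊆ Set.range (b ⁻¹ᵁ (U.1 : S.Opens)).ι := fun l hl => by
    rintro _ ⟨y, rfl⟩
    rw [Scheme.Opens.range_ι]
    show b ((A.homOfLE hWV ≫ l) y) ∈ (U.1 : S.Opens)
    rw [← Scheme.Hom.comp_apply, Category.assoc, hl, Scheme.homOfLE_ι_assoc]
    exact y.2
  rw [← IsOpenImmersion.lift_fac _ _ (hrange k hk), ← IsOpenImmersion.lift_fac _ _ (hrange k' hk')]
  congr 1
  have hp : p₂ ⁻¹ᵁ W U ≤ p₂ ⁻¹ᵁ (a ⁻¹ᵁ V) := p₂.preimage_mono hWV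
  have hnat : (p₂ ∣_ W U) ≫ A.homOfLE hWV = P.homOfLE hp ≫ (p₂ ∣_ (a ⁻¹ᵁ V)) := by
    rw [← cancel_mono (a ⁻¹ᵁ V).ι, Category.assoc, Category.assoc, Scheme.homOfLE_ι, morphismRestrict_ι,
      morphismRestrict_ι, Scheme.homOfLE_ι_assoc]
  haveI : IsIso (p₂ ∣_ W U).appTop :=
    (ConcreteCategory.isIso_iff_bijective _).mpr (bijective_restrict H U.1.2)
  refine ext_of_isAffine ((cancel_mono (p₂ ∣_ W U).appTop).mp ?_)
  rw [← Scheme.Hom.comp_appTop, ← Scheme.Hom.comp_appTop]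
  congr 1
  rw [← cancel_mono (b ⁻¹ᵁ (U.1 : S.Opens)).ι, Category.assoc, Category.assoc, IsOpenImmersion.lift_fac,
    IsOpenImmersion.lift_fac, reassoc_of% hnat, reassoc_of% hnat, h]

theorem exists_restrict (H : IsPullback p₁ p₂ f a) [TrivPush f] [IsFinite a] [Flat a]
    [LocallyOfFinitePresentation a] {b : B ⟶ S} [IsAffineHom b] {U : S.Opens} (hU : IsAffineOpen U)
    (g : P ⟶ B) (hg : g ≫ b = p₂ ≫ a) :
    ∃ k : ((a ⁻¹ᵁ U : A.Opens) : Scheme.{u}) ⟶ B,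
      k ≫ b = (a ⁻¹ᵁ U).ι ≫ a ∧ (p₂ ∣_ (a ⁻¹ᵁ U)) ≫ k = (p₂ ⁻¹ᵁ (a ⁻¹ᵁ U)).ι ≫ g := by
  haveI : IsAffine ((b ⁻¹ᵁ U : B.Opens) : Scheme.{u}) := hU.preimage b
  haveI : IsAffine (U : Scheme.{u}) := hU
  haveI : IsAffine ((a ⁻¹ᵁ U : A.Opens) : Scheme.{u}) := hU.preimage a
  have e : p₂ ⁻¹ᵁ (a ⁻¹ᵁ U) ≤ g ⁻¹ᵁ (b ⁻¹ᵁ U) := by
    rw [← Scheme.Hom.comp_preimage, ← Scheme.Hom.comp_preimage, hg]
  haveI : IsIso (p₂ ∣_ (a ⁻¹ᵁ U)).appTop :=
    (ConcreteCategory.isIso_iff_bijective _).mpr (bijective_restrict H hU)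
  let g' := g.resLE (b ⁻¹ᵁ U) (p₂ ⁻¹ᵁ (a ⁻¹ᵁ U)) e
  obtain ⟨k, hk⟩ : ∃ k : ((a ⁻¹ᵁ U : A.Opens) : Scheme.{u}) ⟶ ((b ⁻¹ᵁ U : B.Opens) : Scheme.{u}),
      k.appTop = g'.appTop ≫ inv (p₂ ∣_ (a ⁻¹ᵁ U)).appTop := exists_hom_of_appTop _
  have h1 : (p₂ ∣_ (a ⁻¹ᵁ U)) ≫ k = g' :=
    ext_of_isAffine (by rw [Scheme.Hom.comp_appTop, hk, Category.assoc, IsIso.inv_hom_id, Category.comp_id])
  have h2 : k ≫ (b ∣_ U) = a ∣_ U := by
    refine ext_of_isAffine ((cancel_mono (p₂ ∣_ (a ⁻¹ᵁ U)).appTop).mp ?_)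
    rw [← Scheme.Hom.comp_appTop, ← Scheme.Hom.comp_appTop]
    congr 1
    rw [← cancel_mono U.ι, Category.assoc, Category.assoc, Category.assoc, morphismRestrict_ι,
      morphismRestrict_ι, reassoc_of% h1, Scheme.Hom.resLE_comp_ι_assoc, hg, morphismRestrict_ι_assoc]
  refine ⟨k ≫ (b ⁻¹ᵁ U).ι, ?_, ?_⟩
  · rw [Category.assoc, ← morphismRestrict_ι, reassoc_of% h2, morphismRestrict_ι]
  · rw [reassoc_of% h1, Scheme.Hom.resLE_comp_ι]

/-- The descended morphism. -/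
theorem existsUnique_desc (H : IsPullback p₁ p₂ f a) [TrivPush f] [IsFinite a] [Flat a]
    [LocallyOfFinitePresentation a] {b : B ⟶ S} [IsAffineHom b] (g : P ⟶ B) (hg : g ≫ b = p₂ ≫ a) :
    ∃! k : A ⟶ B, k ≫ b = a ∧ p₂ ≫ k = g := by
  choose k hk₁ hk₂ using fun U : S.affineOpens => exists_restrict H U.2 g hg
  let 𝒰 : A.OpenCover := A.openCoverOfIsOpenCover (fun U : S.affineOpens => a ⁻¹ᵁ (U : S.Opens))
    (IsOpenCover.comap (iSup_affineOpens_eq_top S) a.base.hom)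
  have hov : ∀ x y, pullback.fst (𝒰.f x) (𝒰.f y) ≫ k x = pullback.snd _ _ ≫ k y := fun (x y : S.affineOpens) => by
    let V : S.Opens := (x : S.Opens) ⊓ y
    have hx : a ⁻¹ᵁ V ≤ a ⁻¹ᵁ (x : S.Opens) := a.preimage_mono inf_le_left
    have hy : a ⁻¹ᵁ V ≤ a ⁻¹ᵁ (y : S.Opens) := a.preimage_mono inf_le_right
    have h1 : A.homOfLE hx ≫ k x = A.homOfLE hy ≫ k y := by
      refine ext_restrict (b := b) H _ _ ?_ ?_ ?_
      · rw [Category.assoc, hk₁, Scheme.homOfLE_ι_assoc]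
      · rw [Category.assoc, hk₁, Scheme.homOfLE_ι_assoc]
      · have h2 : ∀ (z : S.affineOpens) (hz : a ⁻¹ᵁ V ≤ a ⁻¹ᵁ (z : S.Opens)),
            (p₂ ∣_ (a ⁻¹ᵁ V)) ≫ A.homOfLE hz ≫ k z = (p₂ ⁻¹ᵁ (a ⁻¹ᵁ V)).ι ≫ g := fun z hz => by
          have : (p₂ ∣_ (a ⁻¹ᵁ V)) ≫ A.homOfLE hz =
              P.homOfLE (p₂.preimage_mono hz) ≫ (p₂ ∣_ (a ⁻¹ᵁ (z : S.Opens))) := by
            rw [← cancel_mono (a ⁻¹ᵁ (z : S.Opens)).ι, Category.assoc, Category.assoc, Scheme.homOfLE_ι,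
              morphismRestrict_ι, morphismRestrict_ι, Scheme.homOfLE_ι_assoc]
          rw [reassoc_of% this, hk₂, Scheme.homOfLE_ι_assoc]
        rw [h2 x hx, h2 y hy]
    let j : pullback (𝒰.f x) (𝒰.f y) ⟶ ((a ⁻¹ᵁ V : A.Opens) : Scheme.{u}) :=
      IsOpenImmersion.lift (a ⁻¹ᵁ V).ι (pullback.fst (𝒰.f x) (𝒰.f y) ≫ 𝒰.f x) (by
        rintro _ ⟨z, rfl⟩
        rw [Scheme.Opens.range_ι]
        refine ⟨(pullback.fst (𝒰.f x) (𝒰.f y) z).2, ?_⟩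
        rw [pullback.condition]
        exact (pullback.snd (𝒰.f x) (𝒰.f y) z).2)
    have hjx : j ≫ A.homOfLE hx = pullback.fst _ _ := by
      refine (cancel_mono (a ⁻¹ᵁ (x : S.Opens)).ι).mp ((Category.assoc _ _ _).trans ?_)
      exact (congrArg (j ≫ ·) (Scheme.homOfLE_ι A hx)).trans (IsOpenImmersion.lift_fac _ _ _)
    have hjy : j ≫ A.homOfLE hy = pullback.snd _ _ := by
      refine (cancel_mono (a ⁻¹ᵁ (y : S.Opens)).ι).mp ((Category.assoc _ _ _).trans ?_)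
      exact (congrArg (j ≫ ·) (Scheme.homOfLE_ι A hy)).trans
        ((IsOpenImmersion.lift_fac _ _ _).trans pullback.condition)
    exact (congrArg (· ≫ k x) hjx).symm.trans ((Category.assoc _ _ _).trans
      ((congrArg (j ≫ ·) h1).trans ((Category.assoc _ _ _).symm.trans (congrArg (· ≫ k y) hjy))))
  refine ⟨𝒰.glueMorphisms k hov, ⟨Scheme.Cover.hom_ext 𝒰 _ _ fun (U : S.affineOpens) => ?_, ?_⟩, fun k' ⟨h1, h2⟩ =>
    Scheme.Cover.hom_ext 𝒰 _ _ fun (U : S.affineOpens) => ?_⟩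
  · rw [Scheme.Cover.ι_glueMorphisms_assoc]
    exact hk₁ U
  · refine Scheme.Cover.hom_ext (P.openCoverOfIsOpenCover (fun U : S.affineOpens => p₂ ⁻¹ᵁ (a ⁻¹ᵁ (U : S.Opens)))
      (IsOpenCover.comap (IsOpenCover.comap (iSup_affineOpens_eq_top S) a.base.hom) p₂.base.hom)) _ _ fun (U : S.affineOpens) => ?_
    show (p₂ ⁻¹ᵁ (a ⁻¹ᵁ (U : S.Opens))).ι ≫ p₂ ≫ 𝒰.glueMorphisms k hov = (p₂ ⁻¹ᵁ (a ⁻¹ᵁ (U : S.Opens))).ι ≫ g
    rw [← morphismRestrict_ι_assoc, ← hk₂ U]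
    exact congrArg (_ ≫ ·) (Scheme.Cover.ι_glueMorphisms 𝒰 k hov U)
  · rw [Scheme.Cover.ι_glueMorphisms]
    refine ext_restrict (b := b) H _ _ ?_ (hk₁ U) ?_
    · show ((a ⁻¹ᵁ (U : S.Opens)).ι ≫ k') ≫ b = _
      rw [Category.assoc, h1]
    · rw [hk₂ U]
      show (p₂ ∣_ _) ≫ (a ⁻¹ᵁ (U : S.Opens)).ι ≫ k' = _
      rw [morphismRestrict_ι_assoc, h2]

/-- Finite étale covers form a full subcategory of those of a scheme without new functions. -/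
theorem fullyFaithful {X S : Scheme.{u}} (f : X ⟶ S) [TrivPush f] :
    (FEt.restrict f).Full ∧ (FEt.restrict f).Faithful := by
  have key : ∀ {A B : FEt.Cat S} (g : pullback A.hom f ⟶ B.left)
      (_ : g ≫ B.hom = pullback.fst A.hom f ≫ A.hom),
      ∃! k : A.left ⟶ B.left, k ≫ B.hom = A.hom ∧ pullback.fst A.hom f ≫ k = g := fun {A B} g hg => by
    haveI : IsFinite A.hom := A.prop.1
    haveI : Etale A.hom := A.prop.2
    haveI : IsFinite B.hom := B.prop.1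
    exact existsUnique_desc (IsPullback.of_hasPullback A.hom f).flip g hg
  refine ⟨⟨fun {A B} φ => ?_⟩, ⟨fun {A B} φ ψ h => ?_⟩⟩
  · let g : pullback A.hom f ⟶ B.left := φ.left ≫ pullback.fst B.hom f
    have hsnd : φ.left ≫ pullback.snd B.hom f = pullback.snd A.hom f := MorphismProperty.Over.w φ
    have hg : g ≫ B.hom = pullback.fst A.hom f ≫ A.hom := by
      show (φ.left ≫ pullback.fst B.hom f) ≫ B.hom = _
      refine (Category.assoc _ _ _).trans ?_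
      exact ((congrArg (φ.left ≫ ·) pullback.condition).trans
        ((Category.assoc _ _ _).symm.trans (congrArg (· ≫ f) hsnd))).trans pullback.condition.symm
    obtain ⟨k, ⟨hk₁, hk₂⟩, -⟩ := key g hg
    refine ⟨MorphismProperty.Over.homMk k hk₁, MorphismProperty.Over.Hom.ext (pullback.hom_ext ?_ ?_)⟩
    · exact (pullback.lift_fst _ _ _).trans hk₂
    · exact (pullback.lift_snd _ _ _).trans hsnd.symm
  · apply MorphismProperty.Over.Hom.ext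
    have h1 : pullback.fst A.hom f ≫ φ.left = pullback.fst A.hom f ≫ ψ.left := by
      have := congrArg (fun z => z.left ≫ pullback.fst B.hom f) h
      exact (pullback.lift_fst _ _ _).symm.trans (this.trans (pullback.lift_fst _ _ _))
    refine (key (pullback.fst A.hom f ≫ φ.left) ?_).unique ⟨MorphismProperty.Over.w φ, rfl⟩
      ⟨MorphismProperty.Over.w ψ, h1.symm⟩
    rw [Category.assoc]
    exact congrArg (_ ≫ ·) (MorphismProperty.Over.w φ)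

end Groth.Agent.FullyFaithBC
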