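import Mathlib
import Groth.Agent.EtSite.TopInv
import Groth.Agent.Rigidity.Basic
import Groth.Agent.AlgSpLib.LocP
import Groth.Prelude.Def_SGA1

/-!
# Base change along universally submersive morphisms with geometrically connected fibres
-/

set_option autoImplicit false
universe u
open CategoryTheory Limits AlgebraicGeometry TopologicalSpace Opposite

namespace Groth.Agent.FullyFaithBC

variable {A B S X : Scheme.{u}}

theorem isQuotientMap_of_isPullback {P Q X S : Scheme.{u}} {f : X ⟶ S} (hf : SGA1.UnivSubmersive f)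
    {p : P ⟶ Q} {u : P ⟶ X} {v : Q ⟶ S} (H : IsPullback u p f v) : Topology.IsQuotientMap p := by
  exact hf _ _ _ H.flip

theorem univSubmersive_of_isPullback {P Q X S : Scheme.{u}} {f : X ⟶ S} (hf : SGA1.UnivSubmersive f)
    {p : P ⟶ Q} {u : P ⟶ X} {v : Q ⟶ S} (H : IsPullback u p f v) : SGA1.UnivSubmersive p :=
  fun _ _ i₁ i₂ f' h => hf (i₁ ≫ u) (i₂ ≫ v) f' (h.paste_vert H.flip)

theorem preconnected_subsingleton_of_isDiscrete {T : Type*} [TopologicalSpace T] {s t : Set T}
    (ht : IsDiscrete t) (hs : IsPreconnected s) (hst : s ⊆ t) : s.Subsingleton := fun x hx y hy => by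
  haveI : DiscreteTopology s := (ht.mono hst).to_subtype
  haveI : PreconnectedSpace s := isPreconnected_iff_preconnectedSpace.mp hs
  haveI : Subsingleton s := PreconnectedSpace.trivial_of_discrete
  exact congrArg Subtype.val (Subsingleton.elim (⟨x, hx⟩ : s) ⟨y, hy⟩)

/-- Descent of a morphism of étale schemes. -/
theorem exists_desc_of_univSubmersive (f : X ⟶ S) (hf : SGA1.UnivSubmersive f) [GeometricallyConnected f]
    (a : A ⟶ S) (b : B ⟶ S) [Etale a] [Etale b]
    (g : pullback a f ⟶ B) (hg : g ≫ b = pullback.fst a f ≫ a) :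
    ∃ k : A ⟶ B, k ≫ b = a ∧ pullback.fst a f ≫ k = g := by
  let pA := pullback.fst a f
  let b' := pullback.fst a b
  let G : pullback a f ⟶ pullback a b := pullback.lift pA g hg.symm
  let q := pullback.fst b' pA
  let π := pullback.snd b' pA
  let s : pullback a f ⟶ pullback b' pA := pullback.lift G (𝟙 _) (by
    rw [Category.id_comp]; exact pullback.lift_fst _ _ _)
  have hsπ : s ≫ π = 𝟙 _ := pullback.lift_snd _ _ _
  have hsq : s ≫ q = G := pullback.lift_fst _ _ _
  have hGb : G ≫ b' = pA := pullback.lift_fst _ _ _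
  haveI : IsOpenImmersion s := EtSite.isOpenImmersion_of_section π s hsπ
  haveI : LocallyQuasiFinite b' := AlgSpLib.locallyQuasiFinite_of_formallyUnramified b'
  haveI : GeometricallyConnected q := inferInstance
  haveI : GeometricallyConnected pA := inferInstance
  have hpA : SGA1.UnivSubmersive pA := univSubmersive_of_isPullback hf (IsPullback.of_hasPullback a f).flip
  have hq : Topology.IsQuotientMap q := isQuotientMap_of_isPullback hpA (IsPullback.of_hasPullback b' pA).flip
  have hsat : ∀ p z, q z = G p → z ∈ Set.range s := fun p z hz => by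
    have hconst : ∀ w, pA w = pA p → G w = G p := fun w hw => by
      refine preconnected_subsingleton_of_isDiscrete (b'.isDiscrete_preimage_singleton (pA p))
        ((pA.isConnected_preimage_singleton (pA p)).isPreconnected.image G G.continuous.continuousOn) ?_
        ⟨w, hw, rfl⟩ ⟨p, rfl, rfl⟩
      rintro _ ⟨v, hv, rfl⟩
      show b' (G v) = pA p
      rw [← Scheme.Hom.comp_apply, hGb]
      exact hv
    obtain ⟨_, ⟨V, hV, rfl⟩, heV, -⟩ :=
      (pullback a b).isBasis_affineOpens.exists_subset_of_mem_open (Set.mem_univ (G p)) isOpen_univ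
    change (pullback a b).Opens at V
    let V' := G ⁻¹ᵁ V
    let Ω := q ⁻¹ᵁ V ⊓ π ⁻¹ᵁ V'
    have e₁ : V' ≤ s ⁻¹ᵁ Ω := fun w hw => by
      refine ⟨?_, ?_⟩
      · show q (s w) ∈ V
        rw [← Scheme.Hom.comp_apply, hsq]
        exact hw
      · show π (s w) ∈ V'
        rw [← Scheme.Hom.comp_apply, hsπ]
        exact hw
    have e₂ : Ω ≤ π ⁻¹ᵁ V' := inf_le_right
    let sV := s.resLE Ω V' e₁
    let πV := π.resLE V' Ω e₂
    have hsV : sV ≫ πV = 𝟙 _ := by
      rw [← cancel_mono V'.ι]
      simp [sV, πV, hsπ]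
    haveI : IsAffine (V : Scheme.{u}) := hV
    haveI : IsSeparated (V.ι ≫ b') := by
      haveI : IsSeparated ((V.ι ≫ b') ≫ terminal.from A) := by
        rw [terminalIsTerminal.hom_ext ((V.ι ≫ b') ≫ terminal.from A) (terminal.from _)]
        infer_instance
      exact IsSeparated.of_comp (V.ι ≫ b') (terminal.from A)
    haveI : IsSeparated ((q ⁻¹ᵁ V).ι ≫ π) :=
      MorphismProperty.of_isPullback (P := @IsSeparated)
        ((isPullback_morphismRestrict q V).flip.paste_horiz (IsPullback.of_hasPullback b' pA).flip).flip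
        inferInstance
    haveI : IsSeparated πV := by
      haveI : IsSeparated (πV ≫ V'.ι) := by
        rw [show πV ≫ V'.ι = (pullback b' pA).homOfLE (inf_le_left : Ω ≤ q ⁻¹ᵁ V) ≫ (q ⁻¹ᵁ V).ι ≫ π by
          simp [πV, Ω]]
        infer_instance
      exact IsSeparated.of_comp πV V'.ι
    haveI : IsClosedImmersion (sV ≫ πV) := by rw [hsV]; infer_instance
    haveI : IsClosedImmersion sV := IsClosedImmersion.of_comp sV πV
    let O : Set ↥(pullback b' pA) := Ω.ι '' (Set.range sV)ᶜ
    have hO : IsOpen O := Ω.ι.isOpenEmbedding.isOpenMap _ sV.isClosedEmbedding.isClosed_range.isOpen_compl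
    have hdisj : Disjoint (Set.range s) O := Set.disjoint_left.mpr fun x ⟨w, hw⟩ ⟨y, hy, hyx⟩ => hy (by
      have hyw : Ω.ι y = s w := hyx.trans hw.symm
      have hwV : w ∈ V' := by
        have h1 : π (Ω.ι y) ∈ V' := y.2.2
        rw [hyw, ← Scheme.Hom.comp_apply, hsπ] at h1
        exact h1
      refine ⟨⟨w, hwV⟩, Ω.ι.isOpenEmbedding.injective ?_⟩
      rw [← Scheme.Hom.comp_apply, Scheme.Hom.resLE_comp_ι, hyw]
      rfl)
    refine (q.isConnected_preimage_singleton (G p)).isPreconnected.subset_left_of_subset_union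
      s.isOpenEmbedding.isOpen_range hO hdisj ?_ ?_ hz
    · intro w (hw : q w = G p)
      have hwΩ : w ∈ Ω := ⟨show q w ∈ V by rw [hw]; exact heV, show G (π w) ∈ V by
        rw [hconst (π w) (by
          rw [← Scheme.Hom.comp_apply, ← pullback.condition, Scheme.Hom.comp_apply]
          show b' (q w) = _
          rw [hw, ← Scheme.Hom.comp_apply, hGb])]
        exact heV⟩
      by_cases hwr : (⟨w, hwΩ⟩ : (Ω : Scheme.{u})) ∈ Set.range sV
      · left
        obtain ⟨v, hv⟩ := hwr
        refine ⟨V'.ι v, ?_⟩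
        rw [← Scheme.Hom.comp_apply, ← Scheme.Hom.resLE_comp_ι s e₁, Scheme.Hom.comp_apply, hv]
        rfl
      · exact Or.inr ⟨_, hwr, rfl⟩
    · exact ⟨s p, show q (s p) = G p by rw [← Scheme.Hom.comp_apply, hsq], ⟨p, rfl⟩⟩
  have hpre : q ⁻¹' (Set.range G) = Set.range s := by
    refine Set.Subset.antisymm (fun z ⟨p, hp⟩ => hsat p z hp.symm) ?_
    rintro _ ⟨p, rfl⟩
    exact ⟨p, by rw [← Scheme.Hom.comp_apply, hsq]⟩
  let D : (pullback a b).Opens := ⟨Set.range G, hq.isOpen_preimage.mp (hpre ▸ s.isOpenEmbedding.isOpen_range)⟩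
  let C := q ⁻¹ᵁ D
  have hsC : Set.range s ⊆ Set.range C.ι := by
    rw [Scheme.Opens.range_ι]
    exact hpre.ge
  let s' := IsOpenImmersion.lift C.ι s hsC
  have hs' : s' ≫ C.ι = s := IsOpenImmersion.lift_fac _ _ _
  haveI : IsOpenImmersion s' := by
    have : IsOpenImmersion (s' ≫ C.ι) := by rw [hs']; infer_instance
    exact IsOpenImmersion.of_comp s' C.ι
  haveI : Surjective s' := ⟨fun z => by
    obtain ⟨w, hw⟩ := hpre.le z.2
    refine ⟨w, C.ι.isOpenEmbedding.injective ?_⟩
    rw [← Scheme.Hom.comp_apply, hs']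
    exact hw⟩
  haveI : IsIso s' := (isIso_iff_isOpenImmersion_and_surjective s').mpr ⟨inferInstance, inferInstance⟩
  haveI hπ' : IsIso (C.ι ≫ π) := by
    have h1 : s' ≫ C.ι ≫ π = 𝟙 _ := by rw [← Category.assoc, hs', hsπ]
    have h2 : C.ι ≫ π = inv s' := by rw [← cancel_epi s', h1, IsIso.hom_inv_id]
    rw [h2]; infer_instance
  let d := D.ι ≫ b'
  have hpb : IsPullback (C.ι ≫ π) (q ∣_ D) pA d :=
    (isPullback_morphismRestrict q D).flip.paste_horiz (IsPullback.of_hasPullback b' pA).flip
  haveI : Surjective pA := ⟨fun x => (pA.isConnected_preimage_singleton x).nonempty⟩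
  haveI : Surjective d := ⟨fun x => by
    obtain ⟨p, hp⟩ := pA.surjective x
    refine ⟨⟨G p, p, rfl⟩, ?_⟩
    show (D.ι ≫ b') _ = x
    rw [Scheme.Hom.comp_apply]
    show b' (G p) = x
    rw [← Scheme.Hom.comp_apply, hGb]
    exact hp⟩
  haveI : UniversallyInjective d := by
    rw [UniversallyInjective.iff_diagonal]
    refine ⟨fun z => ?_⟩
    let r := pullback.fst (pullback.fst d d ≫ d) pA
    let w := pullback.snd (pullback.fst d d ≫ d) pA
    haveI : Surjective r :=
      MorphismProperty.of_isPullback (P := @Surjective) (IsPullback.of_hasPullback _ pA).flip inferInstance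
    have hw1 : w ≫ pA = (r ≫ pullback.fst d d) ≫ d := by
      rw [Category.assoc]; exact pullback.condition.symm
    have hw2 : w ≫ pA = (r ≫ pullback.snd d d) ≫ d :=
      hw1.trans ((Category.assoc _ _ _).trans ((congrArg (r ≫ ·) pullback.condition).trans (Category.assoc _ _ _).symm))
    have h12 : r ≫ pullback.fst d d = r ≫ pullback.snd d d := by
      have h : hpb.lift w _ hw1 = hpb.lift w _ hw2 := by
        rw [← cancel_mono (C.ι ≫ π), IsPullback.lift_fst, IsPullback.lift_fst]
      simpa only [IsPullback.lift_snd] using congrArg (· ≫ (q ∣_ D)) h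
    have hr : r = (r ≫ pullback.fst d d) ≫ pullback.diagonal d := by
      apply pullback.hom_ext
      · simp
      · simp [h12]
    obtain ⟨y, rfl⟩ := r.surjective z
    exact ⟨(r ≫ pullback.fst d d) y, by rw [← Scheme.Hom.comp_apply, ← hr]⟩
  haveI : IsOpenImmersion d := Rigidity.isOpenImmersion_of_etale_of_universallyInjective d
  haveI hD : IsIso (D.ι ≫ b') := (isIso_iff_isOpenImmersion_and_surjective d).mpr ⟨inferInstance, inferInstance⟩
  refine ⟨inv (D.ι ≫ b') ≫ D.ι ≫ pullback.snd a b, ?_, ?_⟩
  · rw [Category.assoc, Category.assoc, ← pullback.condition, ← Category.assoc D.ι, IsIso.inv_hom_id_assoc]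
  · have h3 : pA ≫ inv (D.ι ≫ b') = s' ≫ (q ∣_ D) := by
      rw [IsIso.comp_inv_eq, Category.assoc, ← hpb.w, Category.assoc, reassoc_of% hs', reassoc_of% hsπ]
    show pA ≫ _ = g
    rw [reassoc_of% h3, morphismRestrict_ι_assoc, reassoc_of% hs']
    show (s ≫ q) ≫ pullback.snd a b = g
    rw [hsq]
    exact pullback.lift_snd _ _ _

/-- Morphisms to an étale scheme are determined after a surjective base change. -/
theorem eq_of_surjective_comp {P : Scheme.{u}} (p : P ⟶ A) [Surjective p] (b : B ⟶ S) [Etale b]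
    (k k' : A ⟶ B) (hkk : k ≫ b = k' ≫ b) (h : p ≫ k = p ≫ k') : k = k' := by
  let t := pullback.lift k k' hkk
  let e₀ := pullback.fst t (pullback.diagonal b)
  have hp : pullback.lift (f := t) (g := pullback.diagonal b) p (p ≫ k) (by
      apply pullback.hom_ext
      · simp only [Category.assoc]
        rw [pullback.lift_fst, pullback.diagonal_fst, Category.comp_id]
      · simp only [Category.assoc]
        rw [pullback.lift_snd, pullback.diagonal_snd, Category.comp_id, h]) ≫ e₀ = p := pullback.lift_fst _ _ _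
  haveI : Surjective e₀ := ⟨fun x => by
    obtain ⟨y, rfl⟩ := p.surjective x
    exact ⟨(pullback.lift (f := t) (g := pullback.diagonal b) p (p ≫ k) _) y,
      (Scheme.Hom.comp_apply _ e₀ y).symm.trans congr($hp y)⟩⟩
  haveI : IsIso e₀ := (isIso_iff_isOpenImmersion_and_surjective e₀).mpr ⟨inferInstance, inferInstance⟩
  have h1 : e₀ ≫ k = pullback.snd t (pullback.diagonal b) := by
    have := congrArg (· ≫ pullback.fst b b) (pullback.condition (f := t) (g := pullback.diagonal b))
    simp only [Category.assoc, pullback.diagonal_fst, Category.comp_id] at this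
    rw [show t ≫ pullback.fst b b = _ from pullback.lift_fst _ _ _] at this
    exact this
  have h2 : e₀ ≫ k' = pullback.snd t (pullback.diagonal b) := by
    have := congrArg (· ≫ pullback.snd b b) (pullback.condition (f := t) (g := pullback.diagonal b))
    simp only [Category.assoc, pullback.diagonal_snd, Category.comp_id] at this
    rw [show t ≫ pullback.snd b b = _ from pullback.lift_snd _ _ _] at this
    exact this
  exact (cancel_epi e₀).mp (h1.trans h2.symm)

end Groth.Agent.FullyFaithBC
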